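import Mathlib
import Groth.Agent.Lib.Helper36.HomCxKInj
import Groth.Agent.Lib.Helper36.HomCxKProj
import Groth.Agent.Lib.Helper36.HomCxPreDG
import Groth.Agent.Lib.Helper94.KFlatRing

/-!
# K-flatness of `Hom•(P, K)`: closure properties in `P` (helper36)

Namespace `Groth.Agent.Lib.Helper36.HKF`.

`PK K P` says that `Hom•(P, K)` is K-flat.  It is invariant under homotopy equivalences of `P`,
passes to retracts and shifts, satisfies two-out-of-three in degreewise split short exact sequences,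
and holds for the tensor unit when `K` is K-flat.
-/

set_option autoImplicit false
universe u
open CategoryTheory CategoryTheory.Limits MonoidalCategory HomologicalComplex CochainComplex
open HomComplex

namespace Groth.Agent.Lib.Helper36.HKF

open Groth.Agent.Lib.Helper36.HCA Groth.Agent.Lib.Helper36.PDG Groth.Agent.Lib.Helper36.HKI
open Groth.Agent.Lib.Helper94.KFlatRing Groth.Agent.Lib.Helper94.KFlatBi

variable {A : Type u} [CommRing A]

/-- `Hom•(P, K)` is K-flat -/
def PK (K P : DRing.Cx A) : Prop := KF A (DRing.homCx P K)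

/-! ### generalities on `KF` -/

lemma kf_of_isZero {X : DRing.Cx A} (hX : IsZero X) : KF A X := by
  intro L _ i
  have h1 : IsZero (L ⊗ X) := (Ψ₂ (curriedTensor (ModuleCat.{u} A)) L).map_isZero hX
  exact (HomologicalComplex.homologyFunctor (ModuleCat.{u} A) (ComplexShape.up ℤ) i).map_isZero h1

lemma kf_of_retract {X Y : DRing.Cx A} (i : X ⟶ Y) (r : Y ⟶ X) (h : i ≫ r = 𝟙 X)
    (hY : KF A Y) : KF A X := by
  intro L hL n
  rw [IsZero.iff_id_eq_zero]
  have h1 : (L ◁ i) ≫ (L ◁ r) = 𝟙 (L ⊗ X) := by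
    rw [← MonoidalCategory.whiskerLeft_comp, h, MonoidalCategory.whiskerLeft_id]
  have h2 : HomologicalComplex.homologyMap (L ◁ i) n ≫ HomologicalComplex.homologyMap (L ◁ r) n
      = 𝟙 _ := by
    rw [← HomologicalComplex.homologyMap_comp, h1, HomologicalComplex.homologyMap_id]
  rw [← h2, (hY L hL n).eq_of_tgt (HomologicalComplex.homologyMap (L ◁ i) n) 0, zero_comp]

lemma kf_of_iso {X Y : DRing.Cx A} (e : X ≅ Y) (hX : KF A X) : KF A Y :=
  kf_of_retract e.inv e.hom e.inv_hom_id hX

lemma kf_shift {X : DRing.Cx A} (hX : KF A X) (n : ℤ) : KF A (X⟦n⟧) :=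
  (kf_iff A _).2 (isKFlat₂_shift _ n ((kf_iff A X).1 hX))

lemma kf_of_homotopyEquiv {X Y : DRing.Cx A} (e : HomotopyEquiv X Y) (hX : KF A X) : KF A Y :=
  (kf_iff A _).2 (isKFlat₂_of_homotopyEquiv _ e ((kf_iff A X).1 hX))

/-! ### homotopy invariance of `Hom•(-, L)` -/

/-- `Hom•(-, L)` preserves homotopies -/
noncomputable def homotopyHomCxPre (L : DRing.Cx A) {P P' : DRing.Cx A} {g g' : P' ⟶ P}
    (h : Homotopy g g') : Homotopy (homCxPre g L) (homCxPre g' L) :=
  (Cochain.equivHomotopy _ _).symm ⟨pre L (Cochain.equivHomotopy _ _ h).1, by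
    rw [← pre_ofHom, ← pre_ofHom, δ_pre L _ (by norm_num), ← pre_add,
      ← (Cochain.equivHomotopy _ _ h).2]⟩

lemma homCxPre_zero (L : DRing.Cx A) {P P' : DRing.Cx A} :
    homCxPre (0 : P' ⟶ P) L = 0 := by
  apply Cochain.ofHom_injective
  rw [← pre_ofHom, Cochain.ofHom_zero, pre_zero, Cochain.ofHom_zero]

/-- a homotopy equivalence in the first variable induces a homotopy equivalence of Hom complexes -/
noncomputable def homCxPreHomotopyEquiv (L : DRing.Cx A) {P P' : DRing.Cx A}
    (e : HomotopyEquiv P' P) : HomotopyEquiv (DRing.homCx P L) (DRing.homCx P' L) where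
  hom := homCxPre e.hom L
  inv := homCxPre e.inv L
  homotopyHomInvId :=
    (Homotopy.ofEq (homCxPre_comp e.inv e.hom L).symm).trans
      ((homotopyHomCxPre L e.homotopyInvHomId).trans (Homotopy.ofEq (homCxPre_id P L)))
  homotopyInvHomId :=
    (Homotopy.ofEq (homCxPre_comp e.hom e.inv L).symm).trans
      ((homotopyHomCxPre L e.homotopyHomInvId).trans (Homotopy.ofEq (homCxPre_id P' L)))

variable (K : DRing.Cx A)

lemma pk_of_homotopyEquiv {P P' : DRing.Cx A} (e : HomotopyEquiv P' P) (h : PK K P') : PK K P :=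
  kf_of_homotopyEquiv (homCxPreHomotopyEquiv K e).symm h

lemma pk_of_retract {P F : DRing.Cx A} (i : P ⟶ F) (r : F ⟶ P) (h : i ≫ r = 𝟙 P)
    (hF : PK K F) : PK K P :=
  kf_of_retract (homCxPre r K) (homCxPre i K)
    (by rw [← homCxPre_comp, h, homCxPre_id]) hF

lemma pk_of_iso {P P' : DRing.Cx A} (e : P' ≅ P) (h : PK K P') : PK K P :=
  pk_of_retract K e.inv e.hom e.inv_hom_id h

lemma pk_of_isZero {P : DRing.Cx A} (hP : IsZero P) : PK K P := by
  apply kf_of_isZero
  rw [IsZero.iff_id_eq_zero, ← homCxPre_id, hP.eq_of_src (𝟙 P) 0, homCxPre_zero]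

/-- two-out-of-three in degreewise split short exact sequences -/
lemma pk_of_split (S : ShortComplex (DRing.Cx A))
    (σ : ∀ n : ℤ, (S.map (HomologicalComplex.eval (ModuleCat.{u} A) (ComplexShape.up ℤ) n)).Splitting)
    (h1 : PK K S.X₁) (h3 : PK K S.X₃) : PK K S.X₂ := by
  have key := isKFlat₂_two_of_three (curriedTensor (ModuleCat.{u} A)) (homCxPreSC S K)
    (fun X q => ((homCxPreSplitting S σ K q).map ((curriedTensor (ModuleCat.{u} A)).obj X)).shortExact)
  exact (kf_iff A _).2 (key.2.1 ((kf_iff A _).1 h3) ((kf_iff A _).1 h1))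

end Groth.Agent.Lib.Helper36.HKF
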