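import Mathlib
import Groth.Agent.Lib.Helper36.HomCxKFlat.Basic
import Groth.Agent.Lib.Helper12.DRingTop

/-!
# K-flatness of `Hom•(P, K)` for strictly perfect `P` (helper36)

Namespace `Groth.Agent.Lib.Helper36.HKF`.
-/

set_option autoImplicit false
universe u
open CategoryTheory CategoryTheory.Limits MonoidalCategory HomologicalComplex CochainComplex
open HomComplex

namespace Groth.Agent.Lib.Helper36.HKF

open Groth.Agent.Lib.Helper36.HCA Groth.Agent.Lib.Helper36.PDG Groth.Agent.Lib.Helper36.HKI
open Groth.Agent.Lib.Helper94.KFlatRing Groth.Agent.Lib.Helper94.KFlatBi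
open Groth.Agent.Lib.Helper12

variable {A : Type u} [CommRing A]

/-! ### shifts -/

/-- `Hom•(P⟦a⟧, K) ≅ Hom•(P, K)⟦-a⟧` -/
noncomputable def homCxShiftIso (P K : DRing.Cx A) (a : ℤ) :
    (DRing.homCx P K)⟦-a⟧ ≅ DRing.homCx (P⟦a⟧) K :=
  HomologicalComplex.Hom.isoOfComponents
    (fun n => (Cochain.leftShiftLinearEquiv A P K (n + -a) a n (by omega)).toModuleIso)
    (by
      intro i j hij
      refine ModuleCat.hom_ext (LinearMap.ext fun (z : Cochain P K (i + -a)) => ?_)
      have hij' : i + 1 = j := hij
      have e : ((ModuleCat.Hom.hom ((-a).negOnePow • (DRing.homCx P K).d (i + -a) (j + -a))) z :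
          Cochain P K (j + -a)) = (-a).negOnePow • δ (i + -a) (j + -a) z :=
        hom_units_smul_apply _ _ _
      change δ i j (z.leftShift a i (by omega)) =
        Cochain.leftShift ((ModuleCat.Hom.hom
          ((-a).negOnePow • (DRing.homCx P K).d (i + -a) (j + -a))) z) a j (by omega)
      rw [e, Cochain.δ_leftShift z a i j (by omega) (j + -a) (by omega),
        Cochain.leftShift_units_smul, Int.negOnePow_neg])

variable (K : DRing.Cx A)

lemma pk_shift {P : DRing.Cx A} (h : PK K P) (a : ℤ) : PK K (P⟦a⟧) :=
  kf_of_iso (homCxShiftIso P K a) (kf_shift h (-a))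

/-! ### the unit -/

/-- `Hom•(𝟙, K) ≅ K` -/
noncomputable def homCxUnitIso : DRing.homCx (𝟙_ (DRing.Cx A)) K ≅ K where
  hom := (ρ_ _).inv ≫ evCx _ K
  inv := curry (ρ_ K).hom
  hom_inv_id := by
    have h : uncurry (((ρ_ _).inv ≫ evCx (𝟙_ (DRing.Cx A)) K) ≫ curry (ρ_ K).hom) =
        uncurry (𝟙 _) := by
      rw [uncurry_comp, uncurry_curry, rightUnitor_naturality, Iso.hom_inv_id_assoc]
      rfl
    have h' := congrArg curry h
    rwa [curry_uncurry, curry_uncurry] at h'
  inv_hom_id := by
    rw [← Category.assoc, rightUnitor_inv_naturality, Category.assoc, ← uncurry_eq, uncurry_curry,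
      Iso.inv_hom_id]

lemma pk_unit (hK : KF A K) : PK K (𝟙_ (DRing.Cx A)) :=
  kf_of_iso (homCxUnitIso K).symm hK

/-! ### single modules -/

lemma pk_single_of_zero (b : ℤ) (M : ModuleCat.{u} A) (h : PK K (singleCx 0 M)) :
    PK K (singleCx b M) :=
  pk_of_iso K (((CochainComplex.singleFunctors (ModuleCat.{u} A)).shiftIso (-b) b 0
    (by omega)).app M) (pk_shift K h (-b))

lemma pk_single_retract (b : ℤ) {M N : ModuleCat.{u} A} (i : M ⟶ N) (r : N ⟶ M)
    (h : i ≫ r = 𝟙 M) (hN : PK K (singleCx b N)) : PK K (singleCx b M) :=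
  pk_of_retract K ((HomologicalComplex.single _ _ b).map i) ((HomologicalComplex.single _ _ b).map r)
    (by rw [← Functor.map_comp, h, CategoryTheory.Functor.map_id]) hN

lemma pk_single_split (b : ℤ) (T : ShortComplex (ModuleCat.{u} A)) (σ : T.Splitting)
    (h1 : PK K (singleCx b T.X₁)) (h3 : PK K (singleCx b T.X₃)) : PK K (singleCx b T.X₂) :=
  pk_of_split K (T.map (HomologicalComplex.single _ _ b))
    (fun n => (σ.map (HomologicalComplex.single _ _ b)).map (HomologicalComplex.eval _ _ n)) h1 h3

/-- the split sequence `M₁ → M₁ × M₂ → M₂` -/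
noncomputable def prodSC (M₁ M₂ : Type u) [AddCommGroup M₁] [Module A M₁] [AddCommGroup M₂]
    [Module A M₂] : ShortComplex (ModuleCat.{u} A) :=
  ShortComplex.mk (ModuleCat.ofHom (LinearMap.inl A M₁ M₂)) (ModuleCat.ofHom (LinearMap.snd A M₁ M₂))
    (by ext x; simp)

/-- its splitting -/
noncomputable def prodSplitting (M₁ M₂ : Type u) [AddCommGroup M₁] [Module A M₁] [AddCommGroup M₂]
    [Module A M₂] : (prodSC (A := A) M₁ M₂).Splitting where
  r := ModuleCat.ofHom (LinearMap.fst A M₁ M₂)
  s := ModuleCat.ofHom (LinearMap.inr A M₁ M₂)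
  f_r := by ext x; simp [prodSC]
  s_g := by ext x; simp [prodSC]
  id := by
    change ModuleCat.ofHom (LinearMap.fst A M₁ M₂) ≫ ModuleCat.ofHom (LinearMap.inl A M₁ M₂) +
      ModuleCat.ofHom (LinearMap.snd A M₁ M₂) ≫ ModuleCat.ofHom (LinearMap.inr A M₁ M₂) =
        𝟙 (ModuleCat.of A (M₁ × M₂))
    refine ModuleCat.hom_ext (LinearMap.ext fun x => ?_)
    rcases x with ⟨x, y⟩
    rw [ModuleCat.hom_add, ModuleCat.hom_comp, ModuleCat.hom_comp]
    simp

lemma pk_single_free (hK : KF A K) (b : ℤ) :
    ∀ n : ℕ, PK K (singleCx b (ModuleCat.of A (Fin n → A)))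
  | 0 => pk_of_isZero K ((HomologicalComplex.single _ _ b).map_isZero
      (ModuleCat.isZero_of_subsingleton _))
  | n + 1 => by
    have h1 : PK K (singleCx b (ModuleCat.of A A)) :=
      pk_single_of_zero K b _ (pk_unit K hK)
    have h2 := pk_single_split K b (prodSC (A := A) A (Fin n → A)) (prodSplitting A (Fin n → A)) h1
      (pk_single_free hK b n)
    let e := (Fin.consLinearEquiv A (fun _ : Fin (n + 1) => A)).toModuleIso
    exact pk_single_retract K b e.inv e.hom e.inv_hom_id h2

lemma pk_single_proj (hK : KF A K) (b : ℤ) (M : ModuleCat.{u} A) [Module.Finite A M]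
    [Module.Projective A M] : PK K (singleCx b M) := by
  obtain ⟨n, f, g, -, -, hfg⟩ := Module.Finite.exists_comp_eq_id_of_projective A M
  refine pk_single_retract K b (ModuleCat.ofHom g) (ModuleCat.ofHom f) ?_ (pk_single_free K hK b n)
  rw [← ModuleCat.ofHom_comp, hfg]
  rfl

/-! ### bounded complexes of finite projective modules -/

/-- degreewise splitting of `topSC` when the terms are projective -/
noncomputable def topSplitting (E : DRing.Cx A) (b : ℤ) (h : IsZero (E.X (b + 1)))
    (hp : ∀ i, Module.Projective A (E.X i)) (n : ℤ) :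
    ((topSC E b h).map
      (HomologicalComplex.eval (ModuleCat.{u} A) (ComplexShape.up ℤ) n)).Splitting := by
  have hex : ((topSC E b h).map
      (HomologicalComplex.eval (ModuleCat.{u} A) (ComplexShape.up ℤ) n)).ShortExact :=
    (topSC_shortExact E b h).map_of_exact _
  have hproj : Projective ((topCoker E b h).X n) := by
    by_cases hn : n = b
    · subst hn
      exact (isZero_topCoker_X_self E n h).projective
    · exact Projective.of_iso (topCokerXIsoOfNe E b h n hn).symm
        ((IsProjective.iff_projective _).1 (hp n))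
  have : Projective ((topSC E b h).map
      (HomologicalComplex.eval (ModuleCat.{u} A) (ComplexShape.up ℤ) n)).X₃ := hproj
  exact hex.splittingOfProjective

theorem pk_of_bounded (hK : KF A K) : ∀ (n : ℕ) (b : ℤ) (E : DRing.Cx A),
    (∀ i : ℤ, i ≤ b - n ∨ b < i → IsZero (E.X i)) → DRing.TermwiseFiniteProjective E →
      PK K E := by
  intro n
  induction n with
  | zero =>
    intro b E hE _
    apply pk_of_isZero
    rw [IsZero.iff_id_eq_zero]
    refine HomologicalComplex.hom_ext _ _ (fun i => (hE i (by
      simp only [Nat.cast_zero, sub_zero]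
      omega)).eq_of_src _ _)
  | succ n ih =>
    intro b E hE hfp
    have h : IsZero (E.X (b + 1)) := hE _ (Or.inr (by omega))
    have hp : ∀ i, Module.Projective A (E.X i) := fun i => (hfp i).2
    have h1 : PK K (singleCx b (E.X b)) := by
      have := (hfp b).1
      have := (hfp b).2
      exact pk_single_proj K hK b (E.X b)
    have h3 : PK K (topCoker E b h) := by
      refine ih (b - 1) (topCoker E b h) (fun i hi => ?_) (fun i => ?_)
      · by_cases hib : i = b
        · subst hib
          exact isZero_topCoker_X_self E i h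
        · refine isZero_topCoker_X E b h i (hE i ?_)
          push_cast
          omega
      · by_cases hib : i = b
        · subst hib
          have : Subsingleton ((topCoker E i h).X i) :=
            ModuleCat.subsingleton_of_isZero (isZero_topCoker_X_self E i h)
          exact ⟨inferInstance, inferInstance⟩
        · let e := (topCokerXIsoOfNe E b h i hib).toLinearEquiv
          have := (hfp i).1
          have := (hfp i).2
          exact ⟨Module.Finite.equiv e.symm, Module.Projective.of_equiv e.symm⟩
    exact pk_of_split K (topSC E b h) (topSplitting E b h hp) h1 h3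

/-- `Hom•(E, K)` is K-flat for `E` a bounded complex of finite projective modules and `K`
K-flat -/
theorem pk_of_strictlyPerfect (hK : KF A K) (E : DRing.Cx A) (a b : ℤ)
    (hE : DRing.VanishesOutside E a b) (hfp : DRing.TermwiseFiniteProjective E) : PK K E := by
  refine pk_of_bounded K hK (b - a + 1).toNat b E (fun i hi => hE i ?_) hfp
  rcases hi with hi | hi
  · left
    have : ((b - a + 1).toNat : ℤ) = max (b - a + 1) 0 := Int.toNat_eq_max _
    omega
  · exact Or.inr hi

end Groth.Agent.Lib.Helper36.HKF
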