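import Mathlib
import Groth.Agent.Lib.Helper36.HomCxKFlat.Single

/-!
# An induction principle for bounded complexes of finite projective modules (helper36)

Namespace `Groth.Agent.Lib.Helper36.PInd`.

A predicate on cochain complexes of `A`-modules which is stable under retracts, satisfies
two-out-of-three in degreewise split short exact sequences, holds for contractible complexes and for
the tensor unit `A[0]`, holds for every bounded complex of finite projective modules.
-/

set_option autoImplicit false
universe u
open CategoryTheory CategoryTheory.Limits MonoidalCategory HomologicalComplex CochainComplex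

namespace Groth.Agent.Lib.Helper36.PInd

open Groth.Agent.Lib.Helper12 Groth.Agent.Lib.Helper36.HKF

variable {A : Type u} [CommRing A]

/-- the hypotheses of the induction principle -/
structure Dev (T : DRing.Cx A → Prop) : Prop where
  retract : ∀ {P F : DRing.Cx A} (i : P ⟶ F) (r : F ⟶ P), i ≫ r = 𝟙 P → T F → T P
  split₂ : ∀ (S : ShortComplex (DRing.Cx A))
    (_ : ∀ n : ℤ, (S.map (HomologicalComplex.eval (ModuleCat.{u} A) (ComplexShape.up ℤ) n)).Splitting),
    T S.X₁ → T S.X₃ → T S.X₂
  split₃ : ∀ (S : ShortComplex (DRing.Cx A))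
    (_ : ∀ n : ℤ, (S.map (HomologicalComplex.eval (ModuleCat.{u} A) (ComplexShape.up ℤ) n)).Splitting),
    T S.X₁ → T S.X₂ → T S.X₃
  split₁ : ∀ (S : ShortComplex (DRing.Cx A))
    (_ : ∀ n : ℤ, (S.map (HomologicalComplex.eval (ModuleCat.{u} A) (ComplexShape.up ℤ) n)).Splitting),
    T S.X₂ → T S.X₃ → T S.X₁
  contr : ∀ (C : DRing.Cx A), Homotopy (𝟙 C) 0 → T C
  unit : T (𝟙_ (DRing.Cx A))

namespace Dev

variable {T : DRing.Cx A → Prop} (hT : Dev T)
include hT

lemma of_iso {P P' : DRing.Cx A} (e : P' ≅ P) (h : T P') : T P :=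
  hT.retract e.inv e.hom e.inv_hom_id h

lemma of_isZero {P : DRing.Cx A} (hP : IsZero P) : T P :=
  hT.contr P (Homotopy.ofEq (hP.eq_of_src _ _))

lemma shift_one {P : DRing.Cx A} (h : T P) : T (P⟦(1 : ℤ)⟧) :=
  hT.split₃ (mappingCone.triangleRotateShortComplex (𝟙 P))
    (mappingCone.triangleRotateShortComplexSplitting (𝟙 P)) h
    (hT.contr _ (mappingCone.homotopyToZeroOfId P))

lemma shift_neg_one {P : DRing.Cx A} (h : T P) : T (P⟦(-1 : ℤ)⟧) :=
  hT.split₁ (mappingCone.triangleRotateShortComplex (𝟙 (P⟦(-1 : ℤ)⟧)))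
    (mappingCone.triangleRotateShortComplexSplitting (𝟙 (P⟦(-1 : ℤ)⟧)))
    (hT.contr _ (mappingCone.homotopyToZeroOfId _))
    (hT.of_iso ((shiftFunctorCompIsoId (DRing.Cx A) (-1 : ℤ) 1 (by omega)).app P).symm h)

lemma shift {P : DRing.Cx A} (h : T P) (a : ℤ) : T (P⟦a⟧) := by
  induction a using Int.induction_on with
  | zero => exact hT.of_iso ((shiftFunctorZero (DRing.Cx A) ℤ).app P).symm h
  | succ n ih =>
    exact hT.of_iso ((CategoryTheory.shiftFunctorAdd' (DRing.Cx A) (n : ℤ) 1 (n + 1) rfl).app P).symm
      (hT.shift_one ih)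
  | pred n ih =>
    exact hT.of_iso ((CategoryTheory.shiftFunctorAdd' (DRing.Cx A) (-(n : ℤ)) (-1) (-(n : ℤ) - 1)
      (by omega)).app P).symm (hT.shift_neg_one ih)

lemma single_of_zero (b : ℤ) (M : ModuleCat.{u} A) (h : T (singleCx 0 M)) : T (singleCx b M) :=
  hT.of_iso (((CochainComplex.singleFunctors (ModuleCat.{u} A)).shiftIso (-b) b 0
    (by omega)).app M) (hT.shift h (-b))

lemma single_retract (b : ℤ) {M N : ModuleCat.{u} A} (i : M ⟶ N) (r : N ⟶ M)
    (h : i ≫ r = 𝟙 M) (hN : T (singleCx b N)) : T (singleCx b M) :=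
  hT.retract ((HomologicalComplex.single _ _ b).map i) ((HomologicalComplex.single _ _ b).map r)
    (by rw [← Functor.map_comp, h, CategoryTheory.Functor.map_id]) hN

lemma single_split (b : ℤ) (S : ShortComplex (ModuleCat.{u} A)) (σ : S.Splitting)
    (h1 : T (singleCx b S.X₁)) (h3 : T (singleCx b S.X₃)) : T (singleCx b S.X₂) :=
  hT.split₂ (S.map (HomologicalComplex.single _ _ b))
    (fun n => (σ.map (HomologicalComplex.single _ _ b)).map (HomologicalComplex.eval _ _ n)) h1 h3

lemma single_free (b : ℤ) : ∀ n : ℕ, T (singleCx b (ModuleCat.of A (Fin n → A)))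
  | 0 => hT.of_isZero ((HomologicalComplex.single _ _ b).map_isZero
      (ModuleCat.isZero_of_subsingleton _))
  | n + 1 => by
    have h1 : T (singleCx b (ModuleCat.of A A)) := hT.single_of_zero b _ hT.unit
    have h2 := hT.single_split b (prodSC (A := A) A (Fin n → A)) (prodSplitting A (Fin n → A)) h1
      (single_free b n)
    let e := (Fin.consLinearEquiv A (fun _ : Fin (n + 1) => A)).toModuleIso
    exact hT.single_retract b e.inv e.hom e.inv_hom_id h2

lemma single_proj (b : ℤ) (M : ModuleCat.{u} A) [Module.Finite A M]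
    [Module.Projective A M] : T (singleCx b M) := by
  obtain ⟨n, f, g, -, -, hfg⟩ := Module.Finite.exists_comp_eq_id_of_projective A M
  refine hT.single_retract b (ModuleCat.ofHom g) (ModuleCat.ofHom f) ?_ (hT.single_free b n)
  rw [← ModuleCat.ofHom_comp, hfg]
  rfl

theorem of_bounded : ∀ (n : ℕ) (b : ℤ) (E : DRing.Cx A),
    (∀ i : ℤ, i ≤ b - n ∨ b < i → IsZero (E.X i)) → DRing.TermwiseFiniteProjective E → T E := by
  intro n
  induction n with
  | zero =>
    intro b E hE _
    apply hT.of_isZero
    rw [IsZero.iff_id_eq_zero]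
    refine HomologicalComplex.hom_ext _ _ (fun i => (hE i (by
      simp only [Nat.cast_zero, sub_zero]
      omega)).eq_of_src _ _)
  | succ n ih =>
    intro b E hE hfp
    have h : IsZero (E.X (b + 1)) := hE _ (Or.inr (by omega))
    have hp : ∀ i, Module.Projective A (E.X i) := fun i => (hfp i).2
    have h1 : T (singleCx b (E.X b)) := by
      have := (hfp b).1
      have := (hfp b).2
      exact hT.single_proj b (E.X b)
    have h3 : T (topCoker E b h) := by
      refine ih (b - 1) (topCoker E b h) (fun i hi => ?_) (fun i => ?_)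
      · by_cases hib : i = b
        · subst hib
          exact isZero_topCoker_X_self E i h
        · refine isZero_topCoker_X E b h i (hE i ?_)
          push_cast
          omega
      · by_cases hib : i = b
        · subst hib
          have : Subsingleton ((topCoker E i h).X i) :=
            ModuleCat.subsingleton_of_isZero (isZero_topCoker_X_self E i h)
          exact ⟨inferInstance, inferInstance⟩
        · let e := (topCokerXIsoOfNe E b h i hib).toLinearEquiv
          have := (hfp i).1
          have := (hfp i).2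
          exact ⟨Module.Finite.equiv e.symm, Module.Projective.of_equiv e.symm⟩
    exact hT.split₂ (topSC E b h) (topSplitting E b h hp) h1 h3

/-- the induction principle -/
theorem of_strictlyPerfect (E : DRing.Cx A) (a b : ℤ)
    (hE : DRing.VanishesOutside E a b) (hfp : DRing.TermwiseFiniteProjective E) : T E := by
  refine hT.of_bounded (b - a + 1).toNat b E (fun i hi => hE i ?_) hfp
  rcases hi with hi | hi
  · left
    have : ((b - a + 1).toNat : ℤ) = max (b - a + 1) 0 := Int.toNat_eq_max _
    omega
  · exact Or.inr hi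

end Dev

end Groth.Agent.Lib.Helper36.PInd
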