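import Mathlib
import Groth.Agent.Lib.Helper36.HomCxKFlat.Induction

/-!
# The biduality map `P ⟶ Hom•(Hom•(P, L), L)` (helper36)

Namespace `Groth.Agent.Lib.Helper36.BD`.

* `eta L P`, natural in `P` (`eta_naturality`);
* `dev_eta` : the class of `P` for which `eta (𝟙_) P` is an isomorphism in `D(A)` satisfies the
  hypotheses of the induction principle `PInd.Dev`;
* `isIso_Q_map_eta` : `eta (𝟙_) P` is an isomorphism in `D(A)` for `P` a bounded complex of finite
  projective modules.
-/

set_option autoImplicit false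
universe u
open CategoryTheory CategoryTheory.Limits MonoidalCategory HomologicalComplex CochainComplex
open HomComplex

attribute [local instance] HasDerivedCategory.standard

namespace Groth.Agent.Lib.Helper36.BD

open Groth.Agent.Lib.Helper36.HCA Groth.Agent.Lib.Helper36.PDG Groth.Agent.Lib.Helper36.HKI
open Groth.Agent.Lib.Helper36.HKF Groth.Agent.Lib.Helper36.PInd DerivedCategory

variable {A : Type u} [CommRing A] (L : DRing.Cx A)

/-- the biduality map -/
noncomputable def eta (P : DRing.Cx A) : P ⟶ DRing.homCx (DRing.homCx P L) L :=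
  curry ((DTen.braidCx P (DRing.homCx P L)).hom ≫ evCx P L)

/-- the double dual on maps -/
noncomputable def dd {P' P : DRing.Cx A} (g : P' ⟶ P) :
    DRing.homCx (DRing.homCx P' L) L ⟶ DRing.homCx (DRing.homCx P L) L :=
  homCxPre (homCxPre g L) L

lemma dd_id (P : DRing.Cx A) : dd L (𝟙 P) = 𝟙 _ := by
  rw [dd, homCxPre_id, homCxPre_id]

lemma dd_comp {P'' P' P : DRing.Cx A} (g : P'' ⟶ P') (g' : P' ⟶ P) :
    dd L (g ≫ g') = dd L g ≫ dd L g' := by
  rw [dd, dd, dd, homCxPre_comp, homCxPre_comp]

lemma eta_naturality {P' P : DRing.Cx A} (g : P' ⟶ P) : eta L P' ≫ dd L g = g ≫ eta L P := by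
  have h : uncurry (eta L P' ≫ dd L g) = uncurry (g ≫ eta L P) := by
    rw [dd, uncurry_comp_homCxPre, uncurry_comp, eta, eta, uncurry_curry, uncurry_curry]
    have h1 := DTen.braidCx_naturality (𝟙 P') (homCxPre g L)
    have h2 := DTen.braidCx_naturality g (𝟙 (DRing.homCx P L))
    rw [MonoidalCategory.id_tensorHom, MonoidalCategory.tensorHom_id] at h1
    rw [MonoidalCategory.id_tensorHom, MonoidalCategory.tensorHom_id] at h2
    rw [← Category.assoc, h1, ← Category.assoc, h2, Category.assoc, Category.assoc, evCx_dinat]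
  have h' := congrArg curry h
  rwa [curry_uncurry, curry_uncurry] at h'

/-- `eta L P` is an isomorphism in `D(A)` -/
def TB (P : DRing.Cx A) : Prop :=
  IsIso (Q.map (eta L P) : (Q.obj P : Dual.D A) ⟶ Q.obj (DRing.homCx (DRing.homCx P L) L))

lemma tb_retract {P F : DRing.Cx A} (i : P ⟶ F) (r : F ⟶ P) (h : i ≫ r = 𝟙 P) (hF : TB L F) :
    TB L P := by
  have : IsIso (Q.map (eta L F) : (Q.obj F : Dual.D A) ⟶ _) := hF
  refine ⟨Q.map (dd L i) ≫ inv (Q.map (eta L F)) ≫ Q.map r, ?_, ?_⟩
  · rw [← Category.assoc, ← Functor.map_comp, eta_naturality, Functor.map_comp, Category.assoc,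
      IsIso.hom_inv_id_assoc, ← Functor.map_comp, h, CategoryTheory.Functor.map_id]
  · rw [Category.assoc, Category.assoc, ← Functor.map_comp, ← eta_naturality, Functor.map_comp,
      IsIso.inv_hom_id_assoc, ← Functor.map_comp, ← dd_comp, h, dd_id,
      CategoryTheory.Functor.map_id]

lemma isZero_Q_obj_of_homotopy {C : DRing.Cx A} (h : Homotopy (𝟙 C) 0) :
    IsZero (Q.obj C : Dual.D A) := by
  rw [IsZero.iff_id_eq_zero, ← Q.map_id, DerivedCategory.Q_map_eq_of_homotopy _ h,
    CategoryTheory.Functor.map_zero]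

/-- `Hom•(-, L)` of a contractible complex is contractible -/
noncomputable def homotopyIdHomCx {C : DRing.Cx A} (h : Homotopy (𝟙 C) 0) :
    Homotopy (𝟙 (DRing.homCx C L)) 0 :=
  (Homotopy.ofEq (homCxPre_id C L).symm).trans
    ((homotopyHomCxPre L h).trans (Homotopy.ofEq (homCxPre_zero L)))

lemma tb_contr (C : DRing.Cx A) (h : Homotopy (𝟙 C) 0) : TB L C := by
  have h1 := isZero_Q_obj_of_homotopy h
  have h2 := isZero_Q_obj_of_homotopy (homotopyIdHomCx L (homotopyIdHomCx L h))
  exact ⟨0, h1.eq_of_src _ _, h2.eq_of_src _ _⟩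

section Split

variable (S : ShortComplex (DRing.Cx A))
  (σ : ∀ n : ℤ, (S.map (HomologicalComplex.eval (ModuleCat.{u} A) (ComplexShape.up ℤ) n)).Splitting)

/-- the double dual of a short complex -/
noncomputable abbrev ddSC : ShortComplex (DRing.Cx A) := homCxPreSC (homCxPreSC S L) L

/-- the biduality map as a morphism of short complexes -/
noncomputable def etaSC : S ⟶ ddSC L S where
  τ₁ := eta L S.X₁
  τ₂ := eta L S.X₂
  τ₃ := eta L S.X₃
  comm₁₂ := eta_naturality L S.f
  comm₂₃ := eta_naturality L S.g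

include σ in
lemma shortExact_of_splitting : S.ShortExact :=
  HomologicalComplex.shortExact_of_degreewise_shortExact _ (fun i => (σ i).shortExact)

include σ in
lemma shortExact_ddSC : (ddSC L S).ShortExact :=
  shortExact_homCxPre (homCxPreSC S L) (homCxPreSplitting S σ L) L

include σ in
lemma tb_split₂ (h1 : TB L S.X₁) (h3 : TB L S.X₃) : TB L S.X₂ :=
  Pretriangulated.isIso₂_of_isIso₁₃
    (triangleOfSES.map (shortExact_of_splitting S σ) (shortExact_ddSC L S σ) (etaSC L S))
    (triangleOfSES_distinguished _) (triangleOfSES_distinguished _) h1 h3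

include σ in
lemma tb_split₃ (h1 : TB L S.X₁) (h2 : TB L S.X₂) : TB L S.X₃ :=
  Pretriangulated.isIso₃_of_isIso₁₂
    (triangleOfSES.map (shortExact_of_splitting S σ) (shortExact_ddSC L S σ) (etaSC L S))
    (triangleOfSES_distinguished _) (triangleOfSES_distinguished _) h1 h2

include σ in
lemma tb_split₁ (h2 : TB L S.X₂) (h3 : TB L S.X₃) : TB L S.X₁ :=
  Pretriangulated.isIso₁_of_isIso₂₃
    (triangleOfSES.map (shortExact_of_splitting S σ) (shortExact_ddSC L S σ) (etaSC L S))
    (triangleOfSES_distinguished _) (triangleOfSES_distinguished _) h2 h3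

end Split

/-! ### the unit -/

section Unit

/-- the tensor unit `A[0]` -/
noncomputable abbrev U : DRing.Cx A := 𝟙_ (DRing.Cx A)

lemma uncurry_eta_comp :
    uncurry (eta (U (A := A)) U ≫ homCxPre (homCxUnitIso (U (A := A))).inv U) =
      (DTen.braidCx (U (A := A)) U).hom ≫ (ρ_ (U (A := A))).hom := by
  rw [uncurry_comp_homCxPre, eta, uncurry_curry]
  have h1 := DTen.braidCx_naturality (𝟙 (U (A := A))) (homCxUnitIso (U (A := A))).inv
  rw [MonoidalCategory.id_tensorHom, MonoidalCategory.tensorHom_id] at h1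
  rw [← Category.assoc, h1, Category.assoc, ← uncurry_eq]
  change _ ≫ uncurry (curry (ρ_ (U (A := A))).hom) = _
  rw [uncurry_curry]

lemma isIso_eta_unit : IsIso (eta (U (A := A)) U) := by
  set ψ := eta (U (A := A)) U ≫ homCxPre (homCxUnitIso (U (A := A))).inv U with hψ
  have h1 : ψ ≫ (homCxUnitIso (U (A := A))).hom =
      (ρ_ (U (A := A))).inv ≫ (DTen.braidCx (U (A := A)) U).hom ≫ (ρ_ (U (A := A))).hom := by
    change ψ ≫ (ρ_ _).inv ≫ evCx _ _ = _
    rw [← Category.assoc, rightUnitor_inv_naturality, Category.assoc, ← uncurry_eq,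
      uncurry_eta_comp]
  have h2 : IsIso (ψ ≫ (homCxUnitIso (U (A := A))).hom) := by
    rw [h1]
    infer_instance
  have h3 : IsIso ψ := IsIso.of_isIso_comp_right ψ (homCxUnitIso (U (A := A))).hom
  have h4 : IsIso (homCxPre (homCxUnitIso (U (A := A))).inv U) :=
    (homCxPreIso (homCxUnitIso (U (A := A))).symm U).isIso_hom
  exact IsIso.of_isIso_comp_right (eta (U (A := A)) U)
    (homCxPre (homCxUnitIso (U (A := A))).inv U)

lemma tb_unit : TB (U (A := A)) U := by
  have := isIso_eta_unit (A := A)
  exact Functor.map_isIso _ _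

/-- the class of complexes on which the biduality map is an isomorphism in `D(A)` satisfies the
hypotheses of the induction principle -/
theorem dev_tb : Dev (TB (U (A := A))) where
  retract i r h hF := tb_retract _ i r h hF
  split₂ S σ := tb_split₂ _ S σ
  split₃ S σ := tb_split₃ _ S σ
  split₁ S σ := tb_split₁ _ S σ
  contr C h := tb_contr _ C h
  unit := tb_unit

/-- the biduality map of a bounded complex of finite projective modules is an isomorphism in
`D(A)` -/
theorem isIso_Q_map_eta (E : DRing.Cx A) (a b : ℤ) (hE : DRing.VanishesOutside E a b)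
    (hfp : DRing.TermwiseFiniteProjective E) :
    IsIso (Q.map (eta (U (A := A)) E) : (Q.obj E : Dual.D A) ⟶ _) :=
  dev_tb.of_strictlyPerfect E a b hE hfp

end Unit

end Groth.Agent.Lib.Helper36.BD
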