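import Mathlib
import Groth.Agent.Lib.Helper36.HomCxKFlat.Bidual

/-!
# The dual of a bounded complex of finite projective modules (helper36)

Namespace `Groth.Agent.Lib.Helper36.BD`.
-/

set_option autoImplicit false
universe u
open CategoryTheory CategoryTheory.Limits MonoidalCategory HomologicalComplex CochainComplex
open HomComplex

namespace Groth.Agent.Lib.Helper36.BD

variable {A : Type u} [CommRing A]

/-- cochains to a module placed in degree `0` -/
noncomputable def toSingleLinearEquiv (P : DRing.Cx A) (M : ModuleCat.{u} A) {p n : ℤ}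
    (h : p + n = 0) :
    Cochain P ((CochainComplex.singleFunctor (ModuleCat.{u} A) 0).obj M) n ≃ₗ[A] (P.X p ⟶ M) :=
  { Cochain.toSingleEquiv h with
    map_smul' := fun a z => by
      change (a • z).v p 0 h ≫ _ = a • (z.v p 0 h ≫ _)
      rw [Cochain.smul_v, Linear.smul_comp] }

/-- the terms of the dual complex -/
noncomputable def dualXEquiv (P : DRing.Cx A) (n : ℤ) :
    Cochain P (U (A := A)) n ≃ₗ[A] (P.X (-n) →ₗ[A] A) :=
  (toSingleLinearEquiv P (ModuleCat.of A A) (neg_add_cancel n)).trans
    (ModuleCat.homLinearEquiv (S := A))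

lemma vanishesOutside_dual (P : DRing.Cx A) (a b : ℤ) (hP : DRing.VanishesOutside P a b) :
    DRing.VanishesOutside (DRing.homCx P (U (A := A))) (-b) (-a) := by
  intro n hn
  have h0 : IsZero (P.X (-n)) := hP (-n) (by omega)
  have : Subsingleton (P.X (-n)) := ModuleCat.subsingleton_of_isZero h0
  have h1 : Subsingleton (P.X (-n) →ₗ[A] A) :=
    ⟨fun f g => LinearMap.ext fun x => by rw [Subsingleton.elim x 0, map_zero, map_zero]⟩
  have : Subsingleton ((DRing.homCx P (U (A := A))).X n) :=
    (dualXEquiv P n).toEquiv.subsingleton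
  exact ModuleCat.isZero_of_subsingleton _

lemma termwiseFiniteProjective_dual (P : DRing.Cx A) (hP : DRing.TermwiseFiniteProjective P) :
    DRing.TermwiseFiniteProjective (DRing.homCx P (U (A := A))) := by
  intro n
  have := (hP (-n)).1
  have := (hP (-n)).2
  have h1 : Module.Finite A (Module.Dual A (P.X (-n))) := inferInstance
  have h2 : Module.Projective A (Module.Dual A (P.X (-n))) := inferInstance
  exact ⟨Module.Finite.equiv (dualXEquiv P n).symm, Module.Projective.of_equiv (dualXEquiv P n).symm⟩

end Groth.Agent.Lib.Helper36.BD
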