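import Mathlib
import Groth.Agent.Lib.Helper36.HomCxCocone
import Groth.Agent.Lib.Helper36.RHomCxCompute
import Groth.Agent.Lib.Helper94.KFlatAbs

/-!
# `RHom_A(E, L)` computed through a K-projective replacement of `E` (helper36)

Namespace `Groth.Agent.Lib.Helper36.RHR`.

* `acyclic_homCx_of_isKInjective` : `Hom•(Z, I)` is acyclic for `Z` acyclic and `I` K-injective;
* `quasiIso_homCxPre` : `Hom•(-, I)` sends quasi-isomorphisms to quasi-isomorphisms for `I`
  K-injective;
* `nonempty_rhomCx_iso_of_quasiIso` : if `g : P ⟶ E` is a quasi-isomorphism with `P`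
  K-projective, then `RHom_A(E, L) ≅ Hom•(P, L)` in `D(A)`.
-/

set_option autoImplicit false
universe u
open CategoryTheory CategoryTheory.Limits HomologicalComplex CochainComplex
open HomComplex

attribute [local instance] HasDerivedCategory.standard

namespace Groth.Agent.Lib.Helper36.RHR

open Groth.Agent.Lib.Helper36.HCA Groth.Agent.Lib.Helper36.HKI Groth.Agent.Lib.Helper36.HCC
open Groth.Agent.Lib.Helper36.RHC DerivedCategory

variable {A : Type u} [CommRing A]

theorem acyclic_homCx_of_isKInjective (Z I : DRing.Cx A) [I.IsKInjective] (hZ : Z.Acyclic) :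
    (DRing.homCx Z I).Acyclic := by
  intro n
  rw [HomologicalComplex.exactAt_iff' _ (n - 1) n (n + 1) (by simp) (by simp),
    ShortComplex.ShortExact.moduleCat_exact_iff_function_exact]
  intro (z : Cochain Z I n)
  constructor
  · intro (hz : δ n (n + 1) z = 0)
    let x : Cocycle Z I n := Cocycle.mk z (n + 1) rfl hz
    have h0 : CohomologyClass.toHom (CohomologyClass.mk x) = 0 := by
      rw [CohomologyClass.toHom_mk, HomotopyCategory.quotient_map_eq_zero_iff]
      exact IsKInjective.nonempty_homotopy_zero _ hZ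
    rw [CohomologyClass.toHom_mk_eq_zero_iff, mem_coboundaries_iff x (n - 1) (by omega)] at h0
    obtain ⟨β, hβ⟩ := h0
    exact ⟨β, hβ⟩
  · rintro ⟨β, rfl⟩
    exact δ_δ _ _ _ β

theorem quasiIso_homCxPre {P' P : DRing.Cx A} (g : P' ⟶ P) [hg : QuasiIso g] (I : DRing.Cx A)
    [I.IsKInjective] : QuasiIso (homCxPre g I) := by
  rw [Groth.Agent.Lib.Helper94.KFlatAbs.quasiIso_iff_acyclic_mappingCone] at hg ⊢
  have h1 : (mappingCocone g).Acyclic :=
    (Groth.Agent.Lib.Helper94.KFlatAbs.acyclic_shift_iff (mappingCone g) (-1)).2 hg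
  exact Groth.Agent.Lib.Helper94.KFlatAbs.acyclic_of_iso (coconeIso g I).symm
    (acyclic_homCx_of_isKInjective _ I h1)

/-- `RHom_A(E, L)` is computed by `Hom•(P, L)` for a K-projective replacement `P ⟶ E` -/
theorem nonempty_rhomCx_iso_of_quasiIso (E : DRing.Cx A) [DRing.HasRHomCx E] (P : DRing.Cx A)
    [P.IsKProjective] (g : P ⟶ E) [QuasiIso g] (L : DRing.Cx A) :
    Nonempty ((DRing.RHomCx E).obj (Q.obj L) ≅ Q.obj (DRing.homCx P L)) := by
  obtain ⟨I, j, hI, hj, -, -⟩ := Groth.Agent.Lib.Helper99.KInj.exists_kInjective_resolution L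
  have := hI
  have := hj
  have h1 : IsIso (Q.map j : (Q.obj L : Dual.D A) ⟶ _) :=
    (DerivedCategory.isIso_Q_map_iff_quasiIso (ModuleCat.{u} A) j).2 hj
  have h2 : QuasiIso (DRing.homCxMap P j) := quasiIso_homCxMap P j
  have h3 : IsIso (Q.map (DRing.homCxMap P j) : (Q.obj (DRing.homCx P L) : Dual.D A) ⟶ _) :=
    (DerivedCategory.isIso_Q_map_iff_quasiIso (ModuleCat.{u} A) _).2 h2
  have h4 : QuasiIso (homCxPre g I) := quasiIso_homCxPre g I
  have h5 : IsIso (Q.map (homCxPre g I) : (Q.obj (DRing.homCx E I) : Dual.D A) ⟶ _) :=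
    (DerivedCategory.isIso_Q_map_iff_quasiIso (ModuleCat.{u} A) _).2 h4
  exact ⟨(DRing.RHomCx E).mapIso (asIso (Q.map j)) ≪≫ rhomCxObjIso E I ≪≫
    asIso (Q.map (homCxPre g I)) ≪≫ (asIso (Q.map (DRing.homCxMap P j))).symm⟩

end Groth.Agent.Lib.Helper36.RHR
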